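import Mathlib

/-! Finite checks on the projective line over the field with 17 elements. -/

set_option autoImplicit false

namespace Cfsg.Agent.Ord

instance fact17 : Fact (Nat.Prime 17) := ⟨by norm_num⟩

def lg17 (x : ZMod 17) : ℕ := [0, 0, 1, 0, 2, 6, 1, 3, 3, 7, 7, 5, 2, 6, 4, 5, 4].getD x.val 0

def sq17 (x : ZMod 17) : Bool := (107286 : ℕ).testBit x.val

def iv17 (x : ZMod 17) : ZMod 17 :=
  [0, 1, 9, 6, 13, 7, 3, 5, 15, 2, 12, 14, 10, 4, 11, 8, 16].getD x.val 0

/-- candidate for the element swapping `0` and `∞` -/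
def W17 (μ α β : ZMod 17) : Option (ZMod 17) → Option (ZMod 17)
  | none => some 0
  | some x => if x = 0 then none else some (μ ^ lg17 x * bif sq17 x then α else β)

/-- the map `x ↦ -1 / x` -/
def M17 : Option (ZMod 17) → Option (ZMod 17)
  | none => some 0
  | some x => if x = 0 then none else some (-iv17 x)

theorem lg17_spec : ∀ x : ZMod 17, x ≠ 0 → x = 2 ^ lg17 x * bif sq17 x then 1 else 3 := by
  decide +kernel

theorem iv17_spec : ∀ x : ZMod 17, x ≠ 0 → x * iv17 x = 1 := by decide +kernel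

theorem norm17 : ∀ x : ZMod 17, x ≠ 0 → ∃ ν : ZMod 17, ν ^ 8 = 1 ∧ (ν * x = -1 ∨ ν * x = 3) := by
  decide +kernel

theorem W17_cases : ∀ μ : ZMod 17, μ ^ 8 = 1 → ∀ α : ZMod 17, α = -1 ∨ α = 3 →
    ∀ β c : ZMod 17, W17 μ α β (some c) = some (-α + 0) → ∀ ν : ZMod 17, ν ^ 8 = 1 →
    (∀ x : ZMod 17, W17 μ α β ((W17 μ α β (some x)).map fun y => c + ν * y) =
      (W17 μ α β (some (1 + x))).map (-α + ·)) → ∀ x : ZMod 17, W17 μ α β (some x) = M17 (some x) := by
  decide +kernel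

theorem M17_sq : ∀ x, M17 (M17 x) = x := by decide +kernel

/-- the lower unipotent elements -/
def Y17 (a : ZMod 17) (x : Option (ZMod 17)) : Option (ZMod 17) :=
  M17 ((M17 x).map (-a + ·))

theorem M17_rel : ∀ t : ZMod 17, t ≠ 0 → ∀ (u : ZMod 17) (x : Option (ZMod 17)),
    (Y17 (-iv17 t) ((x.map (u + ·)).map (t + ·))).map (t + ·) =
      Y17 (-(iv17 t ^ 2 * u)) ((Y17 (-iv17 t) (x.map (t + ·))).map (t + ·)) := by
  decide +kernel

theorem card_S17 : (Finset.univ.filter fun x : ZMod 17 => x ^ 8 = 1).card = 8 := by decide +kernel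

end Cfsg.Agent.Ord
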