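import Mathlib

/-! Finite checks on the projective line over the field with 9 elements. -/

set_option autoImplicit false

namespace Cfsg.Agent.Ord

/-- the plane over the field with three elements -/
abbrev V9 := ZMod 3 × ZMod 3

/-- multiplication by `i` -/
def J9 (x : V9) : V9 := (-x.2, x.1)

def lg9 (x : V9) : ℕ := [0, 1, 3, 0, 0, 3, 2, 1, 2].getD (3 * x.1.val + x.2.val) 0

def sq9 (x : V9) : Bool := x.1 = 0 || x.2 = 0

/-- candidate for the element swapping `0` and `∞` -/
def W9 (j : ℕ) (α β : V9) : Option V9 → Option V9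
  | none => some 0
  | some x => if x = 0 then none else some (J9^[j * lg9 x] (bif sq9 x then α else β))

/-- the map `x ↦ -1 / x` -/
def M9 : Option V9 → Option V9 := W9 3 (2, 0) (1, 2)

theorem lg9_spec : ∀ x : V9, x ≠ 0 → x = J9^[lg9 x] (bif sq9 x then (1, 0) else (1, 1)) := by
  decide +kernel

theorem J9_inj : ∀ i j : Fin 4, J9^[i] (1, 0) = J9^[j] (1, 0) → i = j := by decide +kernel

set_option synthInstance.maxSize 1024 in
theorem W9_cases : ∀ (j : Fin 4) (α β c : V9), W9 j α β (some c) = some (-α + 0) → ∀ k : Fin 4,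
    (∀ x : V9, W9 j α β ((W9 j α β (some x)).map fun y => c + J9^[k] y) =
      (W9 j α β (some ((1, 0) + x))).map (-α + ·)) →
    ∃ m : Fin 4, ∀ x, (W9 j α β x).map J9^[m] = M9 x := by
  decide +kernel

theorem M9_sq : ∀ x, M9 (M9 x) = x := by decide +kernel

/-- Carmichael generators -/
def Y9 (i : Fin 6) (x : Option V9) : Option V9 :=
  if i = 2 then x.map ((1, 0) + ·) else
    (M9 ((M9 (x.map (-(0, (i.val : ZMod 3)) + ·))).map ((2, 0) + ·))).map ((0, (i.val : ZMod 3)) + ·)

theorem Y9_cube : ∀ i x, Y9 i (Y9 i (Y9 i x)) = x := by decide +kernel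

theorem Y9_rel : ∀ i j, i ≠ 0 → i ≠ 1 → j ≠ 0 → j ≠ 1 → i ≠ j →
    ∀ x, Y9 i (Y9 j (Y9 i (Y9 j x))) = x := by decide +kernel

theorem sq_add_sq3 : ∀ a b : ZMod 3, a * a + b * b = 0 → a = 0 ∧ b = 0 := by decide

end Cfsg.Agent.Ord
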