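import Cfsg.Agent.Ord.Zas
import Cfsg.Agent.Ord.T9
import Cfsg.Agent.Tw.A8

/-! A simple group of order 360 with a strongly self-centralising elementary abelian Sylow
3-subgroup with normaliser of order 36 is `A₆`. -/

set_option autoImplicit false

namespace Cfsg.Agent.Ord

open Finset

variable {G V W : Type*} [Group G] [AddCommGroup V] [AddCommGroup W]

/-- change of coordinates -/
def Zas.comap (Z : Zas G V) (e : W ≃+ V) : Zas G W where
  ρ := e.toEquiv.optionCongr.symm.permCongrHom.toMonoidHom.comp Z.ρ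
  inj := e.toEquiv.optionCongr.symm.permCongrHom.injective.comp Z.inj
  τ a := Z.τ (e a)
  τ_act a x := by
    change (Z.ρ (Z.τ (e a)) (x.map e)).map e.symm = _
    rw [Z.τ_act]; cases x <;> simp
  norm g hg a := by
    have hg : (Z.ρ g none).map e.symm = none := hg
    obtain ⟨b, hb⟩ := Z.norm g (by simpa using hg) (e a)
    exact ⟨e.symm b, by simpa using hb⟩
  trans := by
    obtain ⟨g, hg⟩ := Z.trans
    exact ⟨g, fun h => hg (by
      have h : (Z.ρ g none).map e.symm = none := h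
      simpa using h)⟩

theorem Zas.comap_act (Z : Zas G V) (e : W ≃+ V) (g : G) (x : Option W) :
    (Z.comap e).ρ g x = (Z.ρ g (x.map e)).map e.symm := rfl

theorem Zas.comap_H {Z : Zas G V} (e : W ≃+ V) {g : G} (hg : g ∈ Z.H) :
    g ∈ (Z.comap e).H ∧ ∀ a, (Z.comap e).L g a = e.symm (Z.L g (e a)) := by
  refine ⟨⟨?_, ?_⟩, fun a => ?_⟩
  · rw [comap_act, Option.map_none, hg.1]; rfl
  · rw [comap_act, Option.map_some, map_zero, hg.2]; simp
  · rw [L, comap_act, Option.map_some, (conj_τ hg _).2]; rfl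

theorem Zas.exists_sq_neg {Z : Zas G V} (h4 : Nat.card Z.H = 4)
    (hf : ∀ h ∈ Z.H, ∀ a, a ≠ 0 → Z.L h a = a → h = 1) :
    ∃ s ∈ Z.H, ∀ a, Z.L s (Z.L s a) = -a := by
  have inv : ∀ z ∈ Z.H, z ≠ 1 → z * z = 1 → ∀ a, Z.L z a = -a := fun z hz h1 h2 a => by
    by_contra hne
    refine h1 (hf z hz (Z.L z a + a) (fun h => hne (eq_neg_of_add_eq_zero_left h)) ?_)
    rw [L_add hz, ← L_mul hz, h2, L_one, add_comm]
  by_cases h : ∀ s ∈ Z.H, s * s = 1
  · exfalso
    have : Finite Z.H := Nat.finite_of_card_ne_zero (by omega)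
    classical
    have := Nat.card_le_card_of_injective (fun s : Z.H => decide (s = 1)) fun s t hst => by
      by_cases hs : s = 1
      · rw [hs, of_decide_eq_true (hst.symm.trans (decide_eq_true hs))]
      · have ht : t ≠ 1 := of_decide_eq_false (hst.symm.trans (decide_eq_false hs))
        exact Subtype.ext (eq_of_L s.2 t.2 fun a => by
          rw [inv s s.2 (fun e => hs (Subtype.ext e)) (h s s.2),
            inv t t.2 (fun e => ht (Subtype.ext e)) (h t t.2)])
    rw [h4] at this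
    simp at this
  · push Not at h
    obtain ⟨s, hs, h1⟩ := h
    refine ⟨s, hs, fun a => ?_⟩
    rw [← L_mul hs]
    refine inv _ (Z.H.mul_mem hs hs) h1 ?_ a
    have := pow_card_eq_one' (x := (⟨s, hs⟩ : Z.H))
    rw [h4] at this
    have h2 : s ^ 4 = 1 := congrArg Subtype.val this
    rw [← h2, ← sq, ← sq, ← pow_mul]

theorem exists_zas9 [Finite G] [IsSimpleGroup G] (h : Nat.card G = 360) (R : Sylow 3 G)
    (hR : ∀ k ∈ (R : Subgroup G), k ≠ 1 → Subgroup.centralizer {k} = R)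
    (hN : Nat.card (Subgroup.normalizer (R : Set G)) = 36)
    (h3 : ∀ k ∈ (R : Subgroup G), k ^ 3 = 1) :
    ∃ Z : Zas G V9, ∃ s ∈ Z.H, ∀ a, Z.L s a = J9 a := by
  have : Fact (Nat.Prime 3) := ⟨by norm_num⟩
  have hc : ∀ Q : Sylow 3 G, Nat.card (Q : Subgroup G) = 3 ^ 2 := fun Q => by
    rw [Q.card_eq_multiplicity, h, show (360 : ℕ) = 3 ^ 2 * 40 from rfl,
      Nat.factorization_mul (by norm_num) (by norm_num), Finsupp.add_apply,
      Nat.Prime.factorization_pow (by norm_num), Nat.factorization_eq_zero_of_not_dvd (by norm_num)]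
    simp
  letI : CommGroup (R : Subgroup G) := IsPGroup.commGroupOfCardEqPrimeSq (hc R)
  have c9 : Nat.card (Additive (R : Subgroup G)) = 9 := hc R
  obtain ⟨Z, hZ⟩ := exists_zas R (V := Additive (R : Subgroup G)) (fun a => a.toMul)
    (fun a b => rfl) (fun a b hab => Additive.toMul.injective (Subtype.ext hab))
    (fun g => ⟨fun hg => ⟨Additive.ofMul ⟨g, hg⟩, rfl⟩, fun ⟨a, ha⟩ => ha ▸ a.toMul.2⟩)
    (fun k hk h1 Q hQ => by
      have h2 : k ∈ (R : Subgroup G) ⊓ Q := by
        rw [← R.isPGroup'.inf_normalizer_sylow Q]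
        exact ⟨hk, Sylow.smul_eq_iff_mem_normalizer.1 hQ⟩
      letI : CommGroup (Q : Subgroup G) := IsPGroup.commGroupOfCardEqPrimeSq (hc Q)
      refine Sylow.ext (Subgroup.eq_of_le_of_card_ge (fun x hx => ?_) (by rw [hc, hc]))
      rw [← hR k hk h1, Subgroup.mem_centralizer_singleton_iff]
      exact congrArg Subtype.val (mul_comm (⟨x, hx⟩ : (Q : Subgroup G)) ⟨k, h2.2⟩))
    (by
      have := (Subgroup.normalizer (R : Set G)).card_mul_index
      rw [hN, h, ← R.card_eq_index_normalizer] at this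
      rw [c9]; omega)
  have h4 : Nat.card Z.H = 4 := by
    have := Z.card_H
    rw [h, c9] at this; omega
  obtain ⟨s, hs, hs2⟩ := Zas.exists_sq_neg h4 fun g hg a ha e => by
    have h1 := (Zas.conj_τ hg a).1
    rw [e, mul_inv_eq_iff_eq_mul] at h1
    have h2 : g ∈ (R : Subgroup G) := by
      rw [← hR (Z.τ a) (by rw [hZ]; exact a.toMul.2) (Zas.τ_ne_one ha),
        Subgroup.mem_centralizer_singleton_iff]
      exact h1
    have h5 : g = Z.τ (Additive.ofMul ⟨g, h2⟩) := by rw [hZ]; rfl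
    by_contra h6
    have h7 := hg.2
    rw [h5, Z.τ_act, Option.map_some, add_zero] at h7
    exact h6 (congrArg Subtype.val (Additive.ofMul.injective (Option.some_injective _ h7)))
  letI : Module (ZMod 3) (Additive (R : Subgroup G)) := AddCommGroup.zmodModule fun x =>
    Additive.toMul.injective (Subtype.ext (h3 _ x.toMul.2))
  have : Nontrivial (Additive (R : Subgroup G)) := Finite.one_lt_card_iff_nontrivial.1 (by omega)
  obtain ⟨v, hv⟩ := exists_ne (0 : Additive (R : Subgroup G))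
  have hL : ∀ (a : ZMod 3) x, Z.L s (a • x) = a • Z.L s x := fun a x => ZMod.map_smul (Zas.Lh hs) a x
  let f : V9 →+ Additive (R : Subgroup G) := AddMonoidHom.mk' (fun x => x.1 • v + x.2 • Z.L s v)
    fun x y => by simp only [Prod.fst_add, Prod.snd_add, add_smul]; abel
  have hf : ∀ x, f (J9 x) = Z.L s (f x) := fun x => by
    change -x.2 • v + x.1 • Z.L s v = Z.L s (x.1 • v + x.2 • Z.L s v)
    rw [Zas.L_add hs, hL, hL, hs2, neg_smul, smul_neg, add_comm]
  have hi : Function.Injective f := (injective_iff_map_eq_zero f).2 fun x hx => by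
    have h1 := hf x
    rw [hx, show Z.L s 0 = 0 from map_zero (Zas.Lh hs)] at h1
    have h1 : -x.2 • v + x.1 • Z.L s v = 0 := h1
    have hx : x.1 • v + x.2 • Z.L s v = 0 := hx
    have h2 : (x.1 * x.1 + x.2 * x.2) • v = 0 := by
      have : (x.1 * x.1 + x.2 * x.2) • v =
          x.1 • (x.1 • v + x.2 • Z.L s v) - x.2 • (-x.2 • v + x.1 • Z.L s v) := by module
      rw [this, h1, hx]; simp
    obtain ⟨e1, e2⟩ := sq_add_sq3 _ _ ((smul_eq_zero.1 h2).resolve_right hv)
    exact Prod.ext e1 e2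
  let e := AddEquiv.ofBijective f (hi.bijective_of_nat_card_le (by rw [c9]; simp))
  refine ⟨Z.comap e, s, (Zas.comap_H e hs).1, fun a => ?_⟩
  rw [(Zas.comap_H e hs).2, AddEquiv.symm_apply_eq]
  exact (hf a).symm

theorem exists_w9 {Z : Zas G V9} (h4 : Nat.card Z.H = 4) {s : G} (hs : s ∈ Z.H)
    (hJ : ∀ a, Z.L s a = J9 a) : ∃ w, ∀ x, Z.ρ w x = M9 x := by
  have hp : ∀ n : ℕ, Z.L (s ^ n) = J9^[n] := fun n => by
    induction n with
    | zero => exact funext fun a => by rw [pow_zero, Zas.L_one]; rfl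
    | succ n ih => exact funext fun a => by rw [pow_succ, Zas.L_mul hs, ih, hJ]; rfl
  have : Finite Z.H := Nat.finite_of_card_ne_zero (by omega)
  have hH : ∀ g ∈ Z.H, ∃ k : Fin 4, Z.L g = J9^[k] := fun g hg => by
    let f : Fin 4 → Z.H := fun k => ⟨s ^ (k : ℕ), Z.H.pow_mem hs _⟩
    have hi : Function.Injective f := fun i j e => J9_inj i j (by
      rw [← hp, ← hp, show s ^ (i : ℕ) = s ^ (j : ℕ) from congrArg Subtype.val e])
    obtain ⟨k, hk⟩ := (hi.bijective_of_nat_card_le (by simp [h4])).2 ⟨g, hg⟩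
    exact ⟨k, by rw [← hp, show s ^ (k : ℕ) = g from congrArg Subtype.val hk]⟩
  obtain ⟨w, h1, h2⟩ := Z.exists_w
  obtain ⟨α, ha⟩ := Zas.w_some h2 (show ((1, 0) : V9) ≠ 0 by decide)
  obtain ⟨β, hb⟩ := Zas.w_some h2 (show ((1, 1) : V9) ≠ 0 by decide)
  obtain ⟨j, hj⟩ := hH _ (Zas.conj_w h1 h2 hs)
  have hk : ∀ (k : ℕ) (x : V9), Z.ρ w (some (J9^[k] x)) = (Z.ρ w (some x)).map J9^[j * k] := by
    intro k x
    induction k with
    | zero => simp
    | succ k ih =>
      have := Zas.w_H h1 h2 hs (J9^[k] x)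
      rw [hJ, hj, ih] at this
      rw [Function.iterate_succ_apply', this, mul_add, mul_one, add_comm, Function.iterate_add]
      cases Z.ρ w (some x) <;> rfl
  have hW : ∀ x, Z.ρ w x = W9 j α β x := by
    rintro (_ | x)
    · exact h1
    by_cases hx : x = 0
    · rw [hx, h2]; rfl
    · rw [W9, if_neg hx]
      conv_lhs => rw [lg9_spec x hx, hk]
      cases sq9 x
      · rw [cond_false, hb]; rfl
      · rw [cond_true, ha]; rfl
  obtain ⟨g, hg, c, hr⟩ := Zas.w_rel h2 h1 ha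
  obtain ⟨k, hk⟩ := hH g hg
  rw [hk] at hr
  simp only [hW] at hr
  obtain ⟨m, hm⟩ := W9_cases j α β c (by
    have := hr none
    rwa [show W9 j α β none = some 0 from rfl, Option.map_some, ← hk,
      show Z.L g 0 = 0 from map_zero (Zas.Lh hg), add_zero] at this) k fun x => hr (some x)
  exact ⟨s ^ (m : ℕ) * w, fun x => by
    rw [Z.mul_act, Zas.act_H (Z.H.pow_mem hs _), hp, hW, hm]⟩

theorem o360 {G : Type*} [Group G] [Finite G] [IsSimpleGroup G] (h : Nat.card G = 360)
    (R : Sylow 3 G) (hR : ∀ k ∈ (R : Subgroup G), k ≠ 1 → Subgroup.centralizer {k} = R)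
    (hN : Nat.card (Subgroup.normalizer (R : Set G)) = 36)
    (h3 : ∀ k ∈ (R : Subgroup G), k ^ 3 = 1) : Nonempty (G ≃* alternatingGroup (Fin 6)) := by
  obtain ⟨Z, s, hs, hJ⟩ := exists_zas9 h R hR hN h3
  have h4 : Nat.card Z.H = 4 := by
    have := Z.card_H
    rw [h, Nat.card_prod, Nat.card_zmod] at this; omega
  obtain ⟨w, hw⟩ := exists_w9 h4 hs hJ
  have hw' : ∀ x, Z.ρ w⁻¹ x = M9 x := fun x => Z.inv_act (by rw [hw, M9_sq])
  let y : Fin 6 → G := fun i => if i = 2 then Z.τ (1, 0) else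
    Z.τ (0, (i.val : ZMod 3)) * (w * (Z.τ (2, 0) * (w⁻¹ * Z.τ (-(0, (i.val : ZMod 3))))))
  have hy : ∀ i x, Z.ρ (y i) x = Y9 i x := fun i x => by
    by_cases hi : i = 2
    · simp only [y, Y9, if_pos hi, Z.τ_act]
    · simp only [y, Y9, if_neg hi, Z.τ_act, Z.mul_act, hw, hw']
  obtain ⟨φ, hφ⟩ := Tw.exists_fromAlt (u := (0 : Fin 6)) (v := 1) (by decide) y
    (fun i _ _ => Z.ext fun x => by
      rw [pow_three, Z.mul_act, Z.mul_act, hy, hy, hy, Y9_cube, map_one]; rfl)
    fun i j a b c d e => Z.ext fun x => by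
      rw [sq, Z.mul_act, Z.mul_act, Z.mul_act, hy, hy, hy, hy, Y9_rel i j a b c d e, map_one]; rfl
  have : IsSimpleGroup (alternatingGroup (Fin 6)) := alternatingGroup.isSimpleGroup (by simp)
  have hi := Tw.inj_of_simple φ (hφ 2 (by decide) (by decide))
    (Zas.τ_ne_one (Z := Z) (show ((1, 0) : V9) ≠ 0 by decide))
  refine ⟨(MulEquiv.ofBijective φ (hi.bijective_of_nat_card_le ?_)).symm⟩
  rw [h, nat_card_alternatingGroup]
  simp [Nat.factorial]

end Cfsg.Agent.Ord
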