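import Cfsg.Agent.Frob.Count

/-! Doubly transitive groups whose point stabiliser has a regular abelian normal subgroup:
coordinates on `Option V`. -/

set_option autoImplicit false

namespace Cfsg.Agent.Ord

open Finset Cfsg.Agent.Frob

/-- a faithful action on `V ∪ {∞}` with the translations normal in the stabiliser of `∞` -/
structure Zas (G V : Type*) [Group G] [AddCommGroup V] where
  ρ : G →* Equiv.Perm (Option V)
  inj : Function.Injective ρ
  τ : V → G
  τ_act : ∀ a x, ρ (τ a) x = x.map (a + ·)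
  norm : ∀ g, ρ g none = none → ∀ a, ∃ b, g * τ a * g⁻¹ = τ b
  trans : ∃ g, ρ g none ≠ none

variable {G V : Type*} [Group G] [AddCommGroup V]

theorem exists_zas [Finite G] [IsSimpleGroup G] [Finite V] {p : ℕ} [Fact p.Prime] (P : Sylow p G)
    (τ : V → G) (hadd : ∀ a b, τ (a + b) = τ a * τ b) (hinj : Function.Injective τ)
    (hP : ∀ g, g ∈ (P : Subgroup G) ↔ ∃ a, τ a = g)
    (hTI : ∀ k ∈ (P : Subgroup G), k ≠ 1 → ∀ Q : Sylow p G, k • Q = Q → Q = P)
    (hc : Nat.card (Sylow p G) = Nat.card V + 1) :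
    ∃ Z : Zas G V, Z.τ = τ := by
  classical
  have h0 : τ 0 = 1 := by
    have := hadd 0 0
    rw [add_zero] at this
    exact left_eq_mul.1 this
  have hn : ∀ a, τ (-a) = (τ a)⁻¹ := fun a =>
    eq_inv_of_mul_eq_one_left (by rw [← hadd, neg_add_cancel, h0])
  have hPf : ∀ a, τ a • P = P := fun a =>
    Sylow.smul_eq_iff_mem_normalizer.2 (Subgroup.le_normalizer ((hP _).2 ⟨a, rfl⟩))
  have hnt : Nontrivial (Sylow p G) := by
    rw [← Finite.one_lt_card_iff_nontrivial, hc]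
    have : 0 < Nat.card V := Nat.card_pos
    omega
  obtain ⟨Q, hQ⟩ := exists_ne P
  let e0 : Option V → Sylow p G := fun x => x.elim P fun a => τ a • Q
  have ne : ∀ a, τ a • Q ≠ P := fun a h => hQ (by
    rw [← hPf a] at h; exact MulAction.injective _ h)
  have hi : Function.Injective e0 := by
    rintro (_ | a) (_ | b) h
    · rfl
    · exact absurd h.symm (ne b)
    · exact absurd h (ne a)
    · have h : τ a • Q = τ b • Q := h
      by_contra hne
      refine hQ (hTI (τ (-b + a)) ((hP _).2 ⟨_, rfl⟩) (fun h1 => hne ?_) Q ?_)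
      · rw [← h0] at h1
        rw [neg_add_eq_zero.1 (hinj h1)]
      · rw [hadd, mul_smul, h, hn, inv_smul_smul]
  have hb : Function.Bijective e0 := hi.bijective_of_nat_card_le (by rw [hc, Finite.card_option])
  let e := Equiv.ofBijective e0 hb
  let ρ : G →* Equiv.Perm (Option V) :=
    e.symm.permCongrHom.toMonoidHom.comp (MulAction.toPermHom G (Sylow p G))
  have hρ : ∀ g x y, ρ g x = y ↔ g • e0 x = e0 y := fun g x y => by
    change e.symm (g • e.symm.symm x) = y ↔ _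
    rw [Equiv.symm_apply_eq]; rfl
  have htr : ∃ g, ρ g none ≠ none := by
    obtain ⟨g, hg⟩ := MulAction.exists_smul_eq G P Q
    exact ⟨g, fun h => hQ (hg.symm.trans ((hρ _ _ _).1 h))⟩
  refine ⟨⟨ρ, ?_, τ, ?_, ?_, htr⟩, rfl⟩
  · rw [← MonoidHom.ker_eq_bot_iff]
    refine (IsSimpleGroup.eq_bot_or_eq_top_of_normal _ inferInstance).resolve_right fun h => ?_
    obtain ⟨g, hg⟩ := htr
    have : g ∈ ρ.ker := h ▸ Subgroup.mem_top g
    exact hg (by rw [MonoidHom.mem_ker.1 this]; rfl)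
  · rintro a (_ | b)
    · exact (hρ _ _ _).2 (hPf a)
    · exact (hρ _ _ _).2 (by change τ a • τ b • Q = τ (a + b) • Q; rw [hadd, mul_smul])
  · intro g hg a
    have h1 : g ∈ Subgroup.normalizer (P : Set G) :=
      Sylow.smul_eq_iff_mem_normalizer.1 ((hρ _ _ _).1 hg)
    obtain ⟨b, hb⟩ := (hP _).1 ((Subgroup.mem_normalizer_iff.1 h1 _).1 ((hP _).2 ⟨a, rfl⟩))
    exact ⟨b, hb.symm⟩

namespace Zas

variable (Z : Zas G V)

theorem mul_act (g h : G) (x : Option V) : Z.ρ (g * h) x = Z.ρ g (Z.ρ h x) := by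
  rw [map_mul]; rfl

theorem inv_act {g : G} {x y : Option V} (h : Z.ρ g x = y) : Z.ρ g⁻¹ y = x := by
  rw [← h, ← mul_act, inv_mul_cancel, map_one]; rfl

theorem ext {g h : G} (e : ∀ x, Z.ρ g x = Z.ρ h x) : g = h := Z.inj (Equiv.ext e)

theorem τ_add (a b : V) : Z.τ (a + b) = Z.τ a * Z.τ b := Z.ext fun x => by
  rw [mul_act, τ_act, τ_act, τ_act]
  cases x <;> simp [add_assoc]

theorem τ_inj {a b : V} (h : Z.τ a = Z.τ b) : a = b := by
  have := Z.τ_act a (some 0)
  rw [h, Z.τ_act] at this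
  simpa using this.symm

/-- the stabiliser of `∞` and `0` -/
def H : Subgroup G where
  carrier := {g | Z.ρ g none = none ∧ Z.ρ g (some 0) = some 0}
  mul_mem' := fun {a b} ha hb => ⟨by rw [mul_act, hb.1, ha.1], by rw [mul_act, hb.2, ha.2]⟩
  one_mem' := by constructor <;> simp
  inv_mem' := fun {a} ha => ⟨Z.inv_act ha.1, Z.inv_act ha.2⟩

theorem mem_H {g : G} : g ∈ Z.H ↔ Z.ρ g none = none ∧ Z.ρ g (some 0) = some 0 := Iff.rfl

theorem card_H [Finite G] [Finite V] :
    Nat.card G = (Nat.card V + 1) * (Nat.card V * Nat.card Z.H) := by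
  classical
  letI := Fintype.ofFinite V
  letI := MulAction.compHom (Option V) Z.ρ
  have sm : ∀ (g : G) (x : Option V), g • x = Z.ρ g x := fun _ _ => rfl
  have h1 := card_orbit (⊤ : Subgroup G) (none : Option V) univ fun s => by
    simp only [mem_univ, true_iff, sm]
    obtain ⟨g, hg⟩ := Z.trans
    obtain ⟨a, ha⟩ := Option.ne_none_iff_exists'.1 hg
    cases s with
    | none => exact ⟨1, trivial, by simp⟩
    | some b => exact ⟨Z.τ (b - a) * g, trivial, by rw [mul_act, ha, τ_act]; simp⟩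
  have h2 := card_orbit (⊤ ⊓ MulAction.stabilizer G (none : Option V)) (some (0 : V))
    (univ.image some) fun s => by
    simp only [mem_image, mem_univ, true_and, sm, Subgroup.mem_inf, Subgroup.mem_top,
      MulAction.mem_stabilizer_iff]
    constructor
    · rintro ⟨a, rfl⟩
      exact ⟨Z.τ a, by rw [τ_act]; rfl, by rw [τ_act]; simp⟩
    · rintro ⟨g, hg, rfl⟩
      refine Option.ne_none_iff_exists.1 fun h => ?_
      exact absurd ((Z.ρ g).injective (h.trans hg.symm)) (by simp)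
  have h3 : ⊤ ⊓ MulAction.stabilizer G (none : Option V) ⊓ MulAction.stabilizer G (some (0 : V)) =
      Z.H := by
    ext g; simp [mem_H, sm]
  rw [h3, card_image_of_injective _ (Option.some_injective V), card_univ] at h2
  rw [h2, Subgroup.card_top, card_univ, Fintype.card_option] at h1
  rw [h1, Nat.card_eq_fintype_card (α := V)]

/-- the action of an element of `H` on `V` -/
def L (g : G) (a : V) : V := (Z.ρ g (some a)).getD 0

variable {Z}

theorem conj_τ {g : G} (hg : g ∈ Z.H) (a : V) :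
    g * Z.τ a * g⁻¹ = Z.τ (Z.L g a) ∧ Z.ρ g (some a) = some (Z.L g a) := by
  obtain ⟨b, hb⟩ := Z.norm g hg.1 a
  have h1 : Z.ρ g (some a) = some b := by
    have := congrArg (fun k => Z.ρ k (some 0)) hb
    simpa only [mul_act, Z.inv_act hg.2, τ_act, Option.map_some, add_zero] using this
  have h2 : Z.L g a = b := by rw [L, h1]; rfl
  rw [h2]; exact ⟨hb, h1⟩

theorem act_H {g : G} (hg : g ∈ Z.H) (x : Option V) : Z.ρ g x = x.map (Z.L g) := by
  cases x with
  | none => exact hg.1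
  | some a => exact (conj_τ hg a).2

theorem L_add {g : G} (hg : g ∈ Z.H) (a b : V) : Z.L g (a + b) = Z.L g a + Z.L g b :=
  Z.τ_inj (by
    rw [τ_add, ← (conj_τ hg _).1, ← (conj_τ hg _).1, ← (conj_τ hg _).1, τ_add]; group)

/-- `L g` as an additive homomorphism -/
def Lh {g : G} (hg : g ∈ Z.H) : V →+ V := AddMonoidHom.mk' (Z.L g) (L_add hg)

theorem L_mul {g h : G} (hh : h ∈ Z.H) (a : V) : Z.L (g * h) a = Z.L g (Z.L h a) := by
  rw [L, mul_act, (conj_τ hh a).2]; rfl

theorem L_one (a : V) : Z.L 1 a = a := by rw [L, map_one]; rfl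

theorem eq_of_L {g h : G} (hg : g ∈ Z.H) (hh : h ∈ Z.H) (e : ∀ a, Z.L g a = Z.L h a) : g = h :=
  Z.ext fun x => by rw [act_H hg, act_H hh, funext e]

theorem act_B {g : G} (hg : Z.ρ g none = none) :
    ∃ h ∈ Z.H, ∃ c, ∀ x, Z.ρ g x = x.map fun a => c + Z.L h a := by
  obtain ⟨c, hc⟩ : ∃ c, Z.ρ g (some 0) = some c := Option.ne_none_iff_exists'.1 fun h =>
    absurd ((Z.ρ g).injective (h.trans hg.symm)) (by simp)
  have hh : Z.τ (-c) * g ∈ Z.H :=
    ⟨by rw [mul_act, hg, τ_act]; rfl, by rw [mul_act, hc, τ_act]; simp⟩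
  refine ⟨_, hh, c, fun x => ?_⟩
  have : g = Z.τ c * (Z.τ (-c) * g) := Z.ext fun y => by
    rw [mul_act, mul_act, τ_act, τ_act]; cases Z.ρ g y <;> simp
  conv_lhs => rw [this]
  rw [mul_act, act_H hh, τ_act]
  cases x <;> rfl

variable (Z) in
theorem exists_w : ∃ w, Z.ρ w none = some 0 ∧ Z.ρ w (some 0) = none := by
  obtain ⟨g, hg⟩ := Z.trans
  obtain ⟨a, ha⟩ := Option.ne_none_iff_exists'.1 hg
  obtain ⟨b, hb⟩ : ∃ b, Z.ρ g⁻¹ none = some b := Option.ne_none_iff_exists'.1 fun h => by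
    have := Z.inv_act h
    rw [inv_inv] at this; exact hg this
  refine ⟨Z.τ (-a) * g * Z.τ b, ?_, ?_⟩
  · rw [mul_act, mul_act, τ_act, τ_act, Option.map_none, ha]; simp
  · have := Z.inv_act hb
    rw [inv_inv] at this
    rw [mul_act, mul_act, τ_act, τ_act, Option.map_some, add_zero, this]; rfl

theorem conj_w {w h : G} (h1 : Z.ρ w none = some 0) (h2 : Z.ρ w (some 0) = none) (hh : h ∈ Z.H) :
    w * h * w⁻¹ ∈ Z.H :=
  ⟨by rw [mul_act, mul_act, Z.inv_act h2, hh.2, h2], by rw [mul_act, mul_act, Z.inv_act h1, hh.1, h1]⟩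

theorem w_H {w h : G} (h1 : Z.ρ w none = some 0) (h2 : Z.ρ w (some 0) = none) (hh : h ∈ Z.H)
    (a : V) : Z.ρ w (some (Z.L h a)) = (Z.ρ w (some a)).map (Z.L (w * h * w⁻¹)) := by
  rw [← act_H (conj_w h1 h2 hh), ← mul_act, inv_mul_cancel_right, mul_act, (conj_τ hh a).2]

/-- the basic relation `w τ w ∈ B w B` -/
theorem w_rel {w : G} (h2 : Z.ρ w (some 0) = none) {a α : V} (h1 : Z.ρ w none = some 0)
    (ha : Z.ρ w (some a) = some α) : ∃ h ∈ Z.H, ∃ c, ∀ x,
      Z.ρ w ((Z.ρ w x).map fun y => c + Z.L h y) = (Z.ρ w (x.map (a + ·))).map (-α + ·) := by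
  obtain ⟨h, hh, c, hc⟩ := act_B (Z := Z) (g := w⁻¹ * Z.τ (-α) * w * Z.τ a * w⁻¹) (by
    simp only [mul_act, Z.inv_act h2, τ_act, Option.map_some, add_zero, ha, neg_add_cancel,
      Z.inv_act h1])
  refine ⟨h, hh, c, fun x => ?_⟩
  rw [← hc, ← Z.τ_act, ← Z.τ_act, ← mul_act, ← mul_act, ← mul_act, ← mul_act]
  congr 2; group

theorem w_some {w : G} (h2 : Z.ρ w (some 0) = none) {a : V} (ha : a ≠ 0) :
    ∃ α, Z.ρ w (some a) = some α := Option.ne_none_iff_exists'.1 fun h =>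
  ha (Option.some_injective _ ((Z.ρ w).injective (h.trans h2.symm)))

theorem τ_ne_one {a : V} (ha : a ≠ 0) : Z.τ a ≠ 1 := fun h => by
  have := Z.τ_act a (some 0)
  rw [h, map_one] at this
  exact ha (by simpa using this.symm)

theorem eq_top [IsSimpleGroup G] [Nontrivial V] {w : G} (hw : Z.ρ w none = some 0)
    (M : Subgroup G) (h1 : ∀ a, Z.τ a ∈ M) (h2 : ∀ a, w * Z.τ a * w⁻¹ ∈ M) : M = ⊤ := by
  have hN : Subgroup.normalClosure (Set.range Z.τ) ≤ M := by
    refine (Subgroup.closure_le _).2 fun x hx => ?_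
    obtain ⟨_, ⟨a, rfl⟩, hx⟩ := Group.mem_conjugatesOfSet_iff.1 hx
    obtain ⟨g, rfl⟩ := isConj_iff.1 hx
    cases hg : Z.ρ g none with
    | none => obtain ⟨b, hb⟩ := Z.norm g hg a; rw [hb]; exact h1 b
    | some c =>
      obtain ⟨b, hb⟩ := Z.norm (w⁻¹ * (Z.τ c)⁻¹ * g) (by
        rw [mul_act, mul_act, hg, Z.inv_act (g := Z.τ c) (x := some 0) (by rw [τ_act]; simp),
          Z.inv_act hw]) a
      have : g * Z.τ a * g⁻¹ = Z.τ c * (w * Z.τ b * w⁻¹) * (Z.τ c)⁻¹ := by rw [← hb]; group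
      rw [this]
      exact M.mul_mem (M.mul_mem (h1 c) (h2 b)) (M.inv_mem (h1 c))
  obtain ⟨a, ha⟩ := exists_ne (0 : V)
  rcases IsSimpleGroup.eq_bot_or_eq_top_of_normal (Subgroup.normalClosure (Set.range Z.τ))
    inferInstance with h | h
  · exact absurd (Subgroup.mem_bot.1 (h ▸ Subgroup.subset_normalClosure (Set.mem_range_self a)))
      (τ_ne_one ha)
  · exact top_le_iff.1 (h ▸ hN)

theorem center_eq_bot (Z : Zas G V) [IsSimpleGroup G] [Nontrivial V] : Subgroup.center G = ⊥ := by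
  refine (IsSimpleGroup.eq_bot_or_eq_top_of_normal _ inferInstance).resolve_right fun h => ?_
  obtain ⟨w, h1, -⟩ := Z.exists_w
  obtain ⟨a, ha⟩ := exists_ne (0 : V)
  have := congrArg (fun k => Z.ρ k none)
    (Subgroup.mem_center_iff.1 (h ▸ Subgroup.mem_top w : w ∈ Subgroup.center G) (Z.τ a))
  simp only [mul_act, τ_act, h1, Option.map_none, Option.map_some, add_zero] at this
  exact ha (Option.some_injective _ this)

end Zas

end Cfsg.Agent.Ord
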